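import Cfsg.Agent.H341.Rel.PsuRow
import Cfsg.Agent.H341.ThreeElts
import Cfsg.Agent.H183.HgHeis

/-!
# `PSU_4(3)` has non-abelian Sylow 3-subgroups (helper341, for S4985, S4992)
-/

set_option autoImplicit false

namespace Cfsg.Agent.H341.Rel

open Matrix Cfsg.Agent.H726.Rel Cfsg Cfsg.Agent.LieClassical.SUBasic Cfsg.Agent.H183.HgHeis

theorem not_abSylow_of_heis {p : ℕ} [Fact p.Prime] {S : Type*} [Group S] [Finite S] (h : HasHeis p S) :
    ¬ AbSylow p S := by
  intro hab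
  obtain ⟨P⟩ := Sylow.nonempty (p := p) (G := S)
  exact h.not_comm P ⟨⟨fun a b => Subtype.ext (hab P a.1 a.2 b.1 b.2)⟩⟩

variable {F : Type} [Field F] [Fintype F]

theorem u43 (hF : Fintype.card F = 9) : Cfsg.Agent.H726.Rel.OddRow (Cfsg.PSU 4 F 3) 3 := by
  intro p hp _ hp3 hab
  exfalso
  have hp' : p = 3 := (Nat.prime_dvd_prime_iff_eq hp Nat.prime_three).1 hp3
  subst hp'
  have hF3 : Fintype.card F = 3 ^ 2 := by rw [hF]; norm_num
  have hf : Fact (Nat.Prime 3) := ⟨Nat.prime_three⟩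
  have hchar : CharP F 3 := by
    obtain ⟨r, hr⟩ := CharP.exists F
    have hrp : r.Prime := CharP.char_is_prime F r
    have : Fact r.Prime := ⟨hrp⟩
    obtain ⟨m, -, hm⟩ := FiniteField.card F r
    have h1 : r ∣ 3 ^ 2 := by rw [← hF3, hm]; exact dvd_pow_self r m.ne_zero
    have h2 := (Nat.prime_dvd_prime_iff_eq hrp Nat.prime_three).1 (hrp.dvd_of_dvd_pow h1)
    subst h2
    exact hr
  have hc : Subgroup.center (SU 3 F 3) = ⊥ := by
    rw [eq_bot_iff]
    intro g hg
    obtain ⟨c, hcn, hcq, rfl⟩ := (mem_center_SU_iff hF3 (le_refl 3) g).1 hg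
    have hc1 : c = 1 := by
      rw [pow_succ, hcn, one_mul] at hcq
      exact hcq
    subst hc1
    rw [Subgroup.mem_bot]
    apply Subtype.ext
    apply Subtype.ext
    show diagonal (fun _ => (1 : F)) = 1
    exact diagonal_one
  let e : PSU 3 F 3 ≃* SU 3 F 3 := (QuotientGroup.quotientMulEquivOfEq hc).trans QuotientGroup.quotientBot
  obtain ⟨a, b, c, i, j, k, h1, h2, h3, h4, h5, h6, h7⟩ :=
    HasHeis.of_equiv e.symm (Cfsg.Agent.H183.HgHeis.psu_three (F := F) hF3 3 (by norm_num))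
  have hfin : Finite (PSU 4 F 3) := inferInstance
  refine not_abSylow_of_heis (p := 3) (HasHeis.map (ThreeElts.psuEmb (n := 4) hF3 0 (by norm_num)) h1 h2 h3 h4 h5 h6 ?_) hab
  intro h
  apply h7
  apply ThreeElts.psuEmb_injective (n := 4) hF3 0 (by norm_num) (by norm_num) (by norm_num)
  rw [h, map_one]

end Cfsg.Agent.H341.Rel
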