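import Cfsg.Agent.H726.Rel.Defs
import Cfsg.Agent.LieClassical.SUBasic

/-!
# Non-abelian Sylow subgroups of the linear and the unitary groups (helper341, for S4985, S4992)
-/

set_option autoImplicit false

namespace Cfsg.Agent.H341.Rel

open Matrix Cfsg.Agent.H726.Rel

theorem not_ab {S : Type*} [Group S] {p k : ℕ} {H : Subgroup S} (hH : IsPGroup p H) {c : S}
    (hp : 0 < p) (hc : c ^ (p ^ k) = 1)
    (hn : ∀ h ∈ H, c * h * c⁻¹ ∈ H) {a : S} (ha : a ∈ H) (hab : a * c ≠ c * a) : ¬ AbSylow p S := by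
  have hpow : ∀ (i : ℕ) (h : S), h ∈ H → c ^ i * h * (c ^ i)⁻¹ ∈ H := by
    intro i
    induction i with
    | zero => intro h hh; simpa using hh
    | succ i ih =>
      intro h hh
      have := ih _ (hn h hh)
      rw [pow_succ]
      simpa [mul_assoc] using this
  have hK : IsPGroup p (Subgroup.zpowers c) := by
    rintro ⟨g, z, rfl⟩
    refine ⟨k, Subtype.ext ?_⟩
    show (c ^ z) ^ (p ^ k) = 1
    rw [← zpow_natCast, ← _root_.zpow_mul, mul_comm, _root_.zpow_mul, zpow_natCast, hc, _root_.one_zpow]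
  have hN : Subgroup.zpowers c ≤ Subgroup.normalizer (H : Set S) := by
    rw [Subgroup.zpowers_le, Subgroup.mem_normalizer_iff]
    intro h
    refine ⟨hn h, fun hh => ?_⟩
    have h1 := hpow (p ^ k - 1) _ hh
    have h2 : c ^ (p ^ k - 1) * c = 1 := by
      rw [← pow_succ, Nat.sub_add_cancel (Nat.one_le_pow _ _ hp), hc]
    have h3 : c ^ (p ^ k - 1) = c⁻¹ := eq_inv_of_mul_eq_one_left h2
    rw [h3] at h1
    simpa [mul_assoc] using h1
  have hQ := hH.to_sup_of_normal_left' hK hN
  exact not_abSylow hQ (Subgroup.mem_sup_left ha) (Subgroup.mem_sup_right (Subgroup.mem_zpowers c)) hab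

variable {F : Type*} [Field F] {n : ℕ} {K : Type*} [Group K] (μ : K →* Matrix (Fin n) (Fin n) F)

/-- the diagonal elements whose entries have `p`-power order -/
def dg (p k : ℕ) (hp : 0 < p) (hι : Function.Injective μ) : Subgroup K where
  carrier := {g | ∃ v : Fin n → F, μ g = diagonal v ∧ ∀ i, v i ^ (p ^ k) = 1}
  mul_mem' := by
    rintro a b ⟨v, hv, hv'⟩ ⟨w, hw, hw'⟩
    refine ⟨fun i => v i * w i, ?_, fun i => by rw [mul_pow, hv', hw', one_mul]⟩
    rw [map_mul, hv, hw, diagonal_mul_diagonal]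
  one_mem' := ⟨fun _ => 1, by rw [map_one, ← diagonal_one], fun i => one_pow _⟩
  inv_mem' := by
    rintro a ⟨v, hv, hv'⟩
    have h1 : a ^ (p ^ k) = 1 := by
      apply hι
      rw [map_pow, hv, diagonal_pow, map_one, ← diagonal_one]
      congr 1
      funext i
      exact hv' i
    have h2 : a⁻¹ = a ^ (p ^ k - 1) := by
      symm
      apply eq_inv_of_mul_eq_one_left
      rw [← pow_succ, Nat.sub_add_cancel (Nat.one_le_pow _ _ hp), h1]
    refine ⟨fun i => v i ^ (p ^ k - 1), ?_, fun i => ?_⟩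
    · rw [h2, map_pow, hv, diagonal_pow]
      rfl
    · rw [← pow_mul, mul_comm, pow_mul, hv', one_pow]

theorem dg_isPGroup (p k : ℕ) (hp : 0 < p) (hι : Function.Injective μ) : IsPGroup p (dg μ p k hp hι) := by
  rintro ⟨g, v, hv, hv'⟩
  refine ⟨k, Subtype.ext (hι ?_)⟩
  show μ (g ^ (p ^ k)) = μ 1
  rw [map_pow, hv, diagonal_pow, map_one, ← diagonal_one]
  congr 1
  funext i
  exact hv' i

theorem perm_diag (σ : Equiv.Perm (Fin n)) (v : Fin n → F) :
    σ.permMatrix F * diagonal v = diagonal (fun i => v (σ i)) * σ.permMatrix F := by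
  ext i j
  rw [mul_diagonal, diagonal_mul, Equiv.Perm.permMatrix, PEquiv.toMatrix_apply, Equiv.toPEquiv_apply]
  by_cases h : σ i = j
  · subst h
    simp
  · simp [h]

theorem mul_cancel (c : K) {A B : Matrix (Fin n) (Fin n) F} (h : A * μ c = B * μ c) :
    A = B := by
  have h1 : μ c * μ c⁻¹ = 1 := by rw [← map_mul, mul_inv_cancel, map_one]
  have h2 := congrArg (· * μ c⁻¹) h
  simpa only [Matrix.mul_assoc, h1, Matrix.mul_one] using h2

theorem not_ab_quot (hι : Function.Injective μ)
    (hperm : ∀ σ : Equiv.Perm (Fin n), Equiv.Perm.sign σ = 1 → ∃ g : K, μ g = σ.permMatrix F)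
    {w : F} (hdiag : ∀ v : Fin n → F, (∀ i, v i = 1 ∨ v i = w ∨ v i = w⁻¹) → ∏ i, v i = 1 →
      ∃ g : K, μ g = diagonal v) (hn3 : 3 ≤ n)
    {p k : ℕ} (hp : p.Prime) (hp2 : p ≠ 2) (hpn : p ≤ n) (hw : w ^ (p ^ k) = 1) (hw1 : w ≠ 1)
    (hn : 4 ≤ n ∨ w ^ 3 ≠ 1) : ¬ AbSylow p (K ⧸ Subgroup.center K) := by
  classical
  have : Fact p.Prime := ⟨hp⟩
  have hp3 : 3 ≤ p := by have := hp.two_le; omega
  have hw0 : w ≠ 0 := by
    rintro rfl
    rw [zero_pow (pow_pos hp.pos k).ne'] at hw
    exact zero_ne_one hw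
  -- a permutation of order `p`
  obtain ⟨σ, hσ⟩ : ∃ σ : Equiv.Perm (Fin n), orderOf σ = p := by
    apply exists_prime_orderOf_dvd_card' p
    rw [Nat.card_eq_fintype_card, Fintype.card_perm, Fintype.card_fin]
    exact (Nat.Prime.dvd_factorial hp).2 hpn
  have hσp : σ ^ p = 1 := by rw [← hσ]; exact pow_orderOf_eq_one σ
  have hpodd : Odd p := hp.odd_of_ne_two hp2
  have hsgn : Equiv.Perm.sign σ = 1 := by
    have h1 : Equiv.Perm.sign σ ^ p = 1 := by rw [← map_pow, hσp, map_one]
    obtain ⟨m, hm⟩ := hpodd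
    rwa [hm, pow_succ, pow_mul, Int.units_sq, one_pow, one_mul] at h1
  obtain ⟨i, hi⟩ : ∃ i, σ i ≠ i := by
    by_contra hc
    push Not at hc
    have h1 : σ = 1 := Equiv.ext hc
    rw [h1, orderOf_one] at hσ
    omega
  have hi2 : σ (σ i) ≠ i := by
    intro h2
    have h3 : ∀ m : ℕ, (σ ^ (2 * m)) i = i := by
      intro m
      induction m with
      | zero => rfl
      | succ m ih =>
        rw [show 2 * (m + 1) = 2 * m + 1 + 1 by ring, pow_succ, pow_succ]
        show (σ ^ (2 * m)) (σ (σ i)) = i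
        rw [h2, ih]
    obtain ⟨m, hm⟩ := hpodd
    have h4 : (σ ^ p) i = σ i := by
      rw [hm, pow_succ']
      show σ ((σ ^ (2 * m)) i) = σ i
      rw [h3]
    rw [hσp] at h4
    exact hi h4.symm
  have hji : σ (σ i) ≠ σ i := fun h => hi (σ.injective h)
  -- the diagonal element
  set v : Fin n → F := fun x => if x = i then w else if x = σ i then w⁻¹ else 1 with hv
  have hvi : v i = w := by simp [hv]
  have hvj : v (σ i) = w⁻¹ := by simp [hv, hi]
  have hvx : ∀ x, x ≠ i → x ≠ σ i → v x = 1 := fun x h1 h2 => by simp [hv, h1, h2]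
  have hprod : ∏ x, v x = 1 := by
    rw [← Finset.mul_prod_erase Finset.univ v (Finset.mem_univ i),
      ← Finset.mul_prod_erase (Finset.univ.erase i) v (a := σ i) (by simp [hi]), hvi, hvj, Finset.prod_eq_one,
      mul_one, mul_inv_cancel₀ hw0]
    intro x hx
    simp only [Finset.mem_erase, Finset.mem_univ, and_true] at hx
    exact hvx x hx.2 hx.1
  obtain ⟨d, hd⟩ := hdiag v (by
    intro x
    by_cases h1 : x = i
    · right; left; rw [h1, hvi]
    · by_cases h2 : x = σ i
      · right; right; rw [h2, hvj]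
      · left; exact hvx x h1 h2) hprod
  obtain ⟨c, hc⟩ := hperm σ hsgn
  have hcp : c ^ p = 1 := by
    apply hι
    rw [map_pow, hc, map_one]
    have h1 : ∀ m : ℕ, (σ.permMatrix F) ^ m = (σ ^ m).permMatrix F := by
      intro m
      induction m with
      | zero => simp [Equiv.Perm.permMatrix]
      | succ m ih =>
        rw [pow_succ', ih, pow_succ, Matrix.permMatrix_mul]
    rw [h1, hσp]
    simp [Equiv.Perm.permMatrix]
  let π := QuotientGroup.mk' (Subgroup.center K)
  have hD : IsPGroup p ((dg μ p k hp.pos hι).map π) := (dg_isPGroup μ p k hp.pos hι).map π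
  have hdD : d ∈ dg μ p k hp.pos hι := by
    refine ⟨v, hd, fun x => ?_⟩
    by_cases h1 : x = i
    · rw [h1, hvi, hw]
    · by_cases h2 : x = σ i
      · rw [h2, hvj, inv_pow, hw, inv_one]
      · rw [hvx x h1 h2, one_pow]
  refine not_ab hD hp.pos (k := 1) (c := π c) (by rw [pow_one, ← map_pow, hcp, map_one]) ?_
    (a := π d) (Subgroup.mem_map_of_mem π hdD) ?_
  · rintro _ ⟨g, ⟨u, hu, hu'⟩, rfl⟩
    refine ⟨c * g * c⁻¹, ⟨fun x => u (σ x), ?_, fun x => hu' _⟩, by rw [map_mul, map_mul, map_inv]⟩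
    apply mul_cancel μ c
    have h1 : μ (c * g * c⁻¹) * μ c = μ c * μ g := by
      rw [← map_mul, ← map_mul, inv_mul_cancel_right]
    rw [h1, hc, hu, perm_diag]
  · intro hab
    have h1 : (d * c)⁻¹ * (c * d) ∈ Subgroup.center K := by
      rw [← QuotientGroup.eq]
      exact hab
    set z := (d * c)⁻¹ * (c * d) with hz
    have h2 : c * d = d * z * c := by
      have h3 : c * z = z * c := Subgroup.mem_center_iff.1 h1 c
      rw [mul_assoc, ← h3, ← mul_assoc, hz, mul_inv_cancel_left]
    -- the matrix of `z`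
    set u : Fin n → F := fun x => v (σ x) * (v x)⁻¹ with hu
    have hv0 : ∀ x, v x ≠ 0 := by
      intro x
      by_cases h1 : x = i
      · rw [h1, hvi]; exact hw0
      · by_cases h2 : x = σ i
        · rw [h2, hvj]; exact inv_ne_zero hw0
        · rw [hvx x h1 h2]; exact one_ne_zero
    have hzm : μ z = diagonal u := by
      have h3 : μ c * μ d = μ d * μ z * μ c := by
        rw [← map_mul, ← map_mul, ← map_mul, h2]
      rw [hc, hd, perm_diag, ← hc] at h3
      have h4 := mul_cancel μ _ h3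
      ext x y
      have h5 := congrFun (congrFun h4 x) y
      rw [diagonal_mul] at h5
      have h6 : μ z x y = (v x)⁻¹ * diagonal (fun i => v (σ i)) x y := by
        rw [h5, inv_mul_cancel_left₀ (hv0 x)]
      rw [h6]
      by_cases hxy : x = y
      · subst hxy
        rw [diagonal_apply_eq, diagonal_apply_eq, hu, mul_comm]
      · rw [diagonal_apply_ne _ hxy, diagonal_apply_ne _ hxy, mul_zero]
    -- `u` is constant
    have hconst : ∀ x y, u x = u y := by
      intro x y
      by_cases hxy : x = y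
      · rw [hxy]
      obtain ⟨t, ht1, ht2⟩ : ∃ t : Fin n, t ≠ x ∧ t ≠ y := by
        have h3 : (({x, y} : Finset (Fin n))ᶜ).Nonempty := by
          rw [← Finset.card_pos, Finset.card_compl, Fintype.card_fin]
          have := Finset.card_le_two (a := x) (b := y)
          omega
        obtain ⟨t, ht⟩ := h3
        simp only [Finset.mem_compl, Finset.mem_insert, Finset.mem_singleton, not_or] at ht
        exact ⟨t, ht.1, ht.2⟩
      set τ : Equiv.Perm (Fin n) := Equiv.swap x y * Equiv.swap y t with hτ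
      have hτs : Equiv.Perm.sign τ = 1 := by
        rw [hτ, map_mul, Equiv.Perm.sign_swap hxy, Equiv.Perm.sign_swap (Ne.symm ht2)]
        rfl
      have hτx : τ x = y := by
        rw [hτ]
        show Equiv.swap x y (Equiv.swap y t x) = y
        rw [Equiv.swap_apply_of_ne_of_ne hxy (Ne.symm ht1), Equiv.swap_apply_left]
      obtain ⟨g, hg⟩ := hperm τ hτs
      have h3 : g * z = z * g := Subgroup.mem_center_iff.1 h1 g
      have h4 : μ g * μ z = μ z * μ g := by
        rw [← map_mul, ← map_mul, h3]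
      rw [hg, hzm, perm_diag, ← hg] at h4
      have h5 := mul_cancel μ _ h4
      have h6 := congrFun (congrFun h5 x) x
      rw [diagonal_apply_eq, diagonal_apply_eq, hτx] at h6
      exact h6.symm
    have hui : u i = w⁻¹ * w⁻¹ := by rw [hu]; simp only [hvi, hvj]
    have huj : u (σ i) = w := by
      rw [hu]
      simp only [hvj, hvx _ hi2 hji, inv_inv, one_mul]
    have hcube : w ^ 3 = 1 := by
      have h3 := hconst (σ i) i
      rw [hui, huj] at h3
      field_simp at h3
      linear_combination h3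
    rcases hn with h4 | h4
    · -- a further point
      obtain ⟨t, ht⟩ : ∃ t : Fin n, t ∉ ({i, σ i, σ⁻¹ i} : Finset (Fin n)) := by
        by_contra hcon
        push Not at hcon
        have h5 : (Finset.univ : Finset (Fin n)) ⊆ {i, σ i, σ⁻¹ i} := fun x _ => hcon x
        have h6 := Finset.card_le_card h5
        have h7 := Finset.card_le_three (a := i) (b := σ i) (c := σ⁻¹ i)
        rw [Finset.card_univ, Fintype.card_fin] at h6
        omega
      simp only [Finset.mem_insert, Finset.mem_singleton, not_or] at ht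
      obtain ⟨ht1, ht2, ht3⟩ := ht
      have hut : u t = 1 := by
        rw [hu]
        have h5 : σ t ≠ i := fun h => ht3 (by rw [← h]; exact (σ.symm_apply_apply t).symm)
        have h6 : σ t ≠ σ i := fun h => ht1 (σ.injective h)
        simp only [hvx t ht1 ht2, hvx _ h5 h6, inv_one, mul_one]
      have h5 := hconst (σ i) t
      rw [huj, hut] at h5
      exact hw1 h5
    · exact h4 hcube

end Cfsg.Agent.H341.Rel
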